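import Mathlib
import Cfsg.Agent.Zm.Red
import Cfsg.Agent.S4003

/-!
# Counting solutions of `x ^ n = 1` in simple groups
-/

set_option autoImplicit false

namespace Cfsg.Agent.Zm

open Subgroup

/-- Only the trivial divisors have exactly `n` solutions. -/
def Key (G : Type*) [Group G] : Prop :=
  ∀ n, n ∣ Nat.card G → L G n = n → n = 1 ∨ n = Nat.card G

variable {G : Type*} [Group G]

theorem Key.fc (h : Key G) : FC G := fun n h1 h2 => by
  rcases h n h1 h2 with rfl | rfl
  · exact ⟨⊥, Set.ext fun x => by simp⟩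
  · exact ⟨⊤, Set.ext fun x => by simp⟩

theorem Key.of_equiv {G' : Type*} [Group G'] (e : G' ≃* G) (h : Key G) : Key G' := fun n h1 h2 => by
  rw [Nat.card_congr e.toEquiv] at h1 ⊢
  exact h n h1 (by rwa [← L_congr e])

/-- All `p`-elements have order dividing `p ^ e`. -/
def Ex (G : Type*) [Group G] (p e : ℕ) : Prop := ∀ (g : G) (k : ℕ), g ^ p ^ k = 1 → g ^ p ^ e = 1

variable [Finite G] {n p : ℕ}

theorem pos_of_L (hL : L G n = n) : 0 < n := hL ▸ L_pos n

theorem Ex.not_dvd {e : ℕ} (hp : p.Prime) (h : Ex G p e) (hL : L G n = n) (he : p ^ e ∣ n) :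
    ¬ p * n ∣ Nat.card G := fun hd => by
  have h0 := pos_of_L hL
  obtain ⟨a, m, hm, rfl⟩ := Nat.exists_eq_pow_mul_and_not_dvd h0.ne' p hp.ne_one
  have h1 : p ^ e ∣ p ^ a :=
    ((Nat.Coprime.pow_left e ((Nat.Prime.coprime_iff_not_dvd hp).2 hm))).dvd_of_dvd_mul_right he
  have h2 : L G (p * (p ^ a * m)) = L G (p ^ a * m) :=
    Nat.card_congr (Equiv.subtypeEquivRight fun x => ⟨fun hx => by
      have h3 := h (x ^ m) (a + 1) (by rw [← pow_mul, ← hx]; congr 1; ring)
      obtain ⟨c, hc⟩ := h1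
      rw [mul_comm, pow_mul, hc, pow_mul, h3, one_pow],
      fun hx => by rw [mul_comm, pow_mul, hx, one_pow]⟩)
  have h3 := Nat.le_of_dvd (L_pos _) (dvd_L hd dvd_rfl)
  rw [h2, hL] at h3
  have := hp.two_le
  nlinarith

theorem ex_of_not_isCyclic [hp : Fact p.Prime] {e : ℕ} (he : ¬ p ^ (e + 2) ∣ Nat.card G)
    (h : ∀ P : Sylow p G, ¬ IsCyclic P) : Ex G p e := fun g k hg => by
  have h1 : IsPGroup p (zpowers g) := by
    obtain ⟨j, -, hj⟩ := (Nat.dvd_prime_pow hp.out).1 (orderOf_dvd_of_pow_eq_one hg)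
    exact .of_card (by rw [Nat.card_zpowers, hj])
  obtain ⟨P, hP⟩ := h1.exists_le_sylow
  obtain ⟨j, hj⟩ := IsPGroup.iff_card.1 h1
  obtain ⟨i, hi⟩ := IsPGroup.iff_card.1 P.isPGroup'
  have h2 : i < e + 2 := by
    by_contra h2
    exact he ((pow_dvd_pow p (by omega)).trans (hi ▸ card_subgroup_dvd_card _))
  have h3 : j < i := by
    have h4 : zpowers g ≠ P := fun e => h P (e ▸ inferInstance)
    have h5 := card_le_of_le hP
    have h6 : Nat.card (zpowers g) ≠ Nat.card P := fun e => h4 (eq_of_le_of_card_ge hP e.ge)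
    rw [hj, hi] at h5 h6
    exact (Nat.pow_lt_pow_iff_right hp.out.one_lt).1 (lt_of_le_of_ne h5 h6)
  rw [Nat.card_zpowers] at hj
  exact orderOf_dvd_iff_pow_eq_one.1 (hj ▸ pow_dvd_pow p (by omega))

theorem not_isCyclic_of_pair [hp : Fact p.Prime] {u v : G} (hu : u ^ p = 1) (hv : v ^ p = 1)
    (hc : u * v = v * u) (h1 : u ≠ 1) (h2 : ∀ i < p, v ≠ u ^ i) (P : Sylow p G) : ¬ IsCyclic P := by
  intro hP
  have ho : orderOf u = p := orderOf_eq_prime hu h1
  have h3 : IsPGroup p (closure {u, v} : Subgroup G) := by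
    have hcm : ∀ x ∈ ({u, v} : Set G), ∀ y ∈ ({u, v} : Set G), x * y = y * x := by
      rintro x (rfl | rfl) y (rfl | rfl) <;> simp [hc]
    intro g
    refine ⟨1, Subtype.ext ?_⟩
    rw [pow_one, coe_pow, coe_one]
    obtain ⟨g, hg⟩ := g
    induction hg using closure_induction with
    | mem x hx => rcases hx with rfl | rfl <;> assumption
    | one => exact one_pow _
    | mul x y hx hy a b =>
      have h4 : Commute x y := congrArg Subtype.val
        ((isMulCommutative_closure hcm).is_comm.comm (⟨x, hx⟩ : closure ({u, v} : Set G)) ⟨y, hy⟩)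
      rw [h4.mul_pow, a, b, one_mul]
    | inv x hx a => rw [inv_pow, a, inv_one]
  obtain ⟨Q, hQ⟩ := h3.exists_le_sylow
  have : IsCyclic Q := isCyclic_of_surjective _ (Sylow.equiv P Q).surjective
  classical
  have := Fintype.ofFinite Q
  have h4 : (Finset.univ.filter fun a : Q => a ^ p = 1).card ≤ p := by
    convert IsCyclic.card_pow_eq_one_le (α := Q) hp.out.pos
    exact Iff.rfl
  have hu' : u ∈ (Q : Subgroup G) := hQ (subset_closure (by simp))
  have hv' : v ∈ (Q : Subgroup G) := hQ (subset_closure (by simp))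
  have h5 : insert (⟨v, hv'⟩ : Q) ((Finset.range p).image fun i => (⟨u, hu'⟩ : Q) ^ i) ⊆
      Finset.univ.filter fun a : Q => a ^ p = 1 := by
    intro a ha
    simp only [Finset.mem_insert, Finset.mem_image, Finset.mem_filter, Finset.mem_univ,
      true_and] at ha ⊢
    rcases ha with rfl | ⟨i, -, rfl⟩
    · exact Subtype.ext hv
    · rw [pow_right_comm, show (⟨u, hu'⟩ : Q) ^ p = 1 from Subtype.ext hu, one_pow]
  have h6 := Finset.card_le_card h5
  rw [Finset.card_insert_of_notMem (by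
    simp only [Finset.mem_image, Finset.mem_range, not_exists, not_and]
    exact fun i hi e => h2 i hi (congrArg Subtype.val e).symm), Finset.card_image_of_injOn (by
    intro i hi j hj e
    refine pow_injOn_Iio_orderOf (x := u) ?_ ?_ (congrArg Subtype.val e)
    · simpa [ho] using hi
    · simpa [ho] using hj), Finset.card_range] at h6
  omega

theorem not_dvd_of_odd [hp : Fact p.Prime] (h2 : p ≠ 2) (P : Sylow p G) (h : ¬ IsCyclic P)
    (hL : L G n = n) (he : p ∣ n) : ¬ p * n ∣ Nat.card G := fun hd => by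
  have h0 := pos_of_L hL
  obtain ⟨a, m, hm, rfl⟩ := Nat.exists_eq_pow_mul_and_not_dvd h0.ne' p hp.out.ne_one
  have hco := (Nat.Prime.coprime_iff_not_dvd hp.out).2 hm
  have ha : 0 < a := by
    rcases a with _ | a
    · simp [hm] at he
    · omega
  have h3 : p ^ (a + 1) ∣ L G (p * (p ^ a * m)) :=
    dvd_L (Dvd.dvd.trans ⟨m, by ring⟩ hd) ⟨m, by ring⟩
  have h4 : p ^ (a + 1) ∣ Nat.card {x : G // x ^ (p * (p ^ a * m)) = 1 ∧ x ^ (p ^ a * m) ≠ 1} := by
    refine Ch.dvd_card_of_classes (Setoid.ker (orderOf : G → ℕ)) _ _ fun x hx => ?_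
    obtain ⟨b, d, hd', e⟩ := Nat.exists_eq_pow_mul_and_not_dvd (orderOf_pos x).ne' p hp.out.ne_one
    have hco' := (Nat.Prime.coprime_iff_not_dvd hp.out).2 hd'
    have k1 := orderOf_dvd_of_pow_eq_one hx.1
    have k2 := mt orderOf_dvd_iff_pow_eq_one.1 hx.2
    rw [e, ← mul_assoc, ← pow_succ'] at k1
    rw [e] at k2
    have k3 : d ∣ m := (hco'.symm.pow_right (a + 1)).dvd_of_dvd_mul_left ((dvd_mul_left _ _).trans k1)
    have k4 : b ≤ a + 1 := (Nat.pow_dvd_pow_iff_le_right hp.out.one_lt).1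
      ((hco.pow_left b).dvd_of_dvd_mul_right ((dvd_mul_right _ _).trans k1))
    have k5 : b = a + 1 := by
      by_contra k5
      exact k2 (mul_dvd_mul (pow_dvd_pow p (by omega)) k3)
    subst k5
    have k6 := S4003.result p h2 ((dvd_mul_right _ _).trans hd) P h (a + 1) d (by omega) hco'
    refine k6.trans (dvd_of_eq (Nat.card_congr (Equiv.subtypeEquivRight fun y => ?_)))
    rw [← e, Setoid.ker_def]
    refine ⟨fun k7 => ⟨?_, k7.symm⟩, fun k7 => k7.2.symm⟩
    rw [Ne, ← orderOf_dvd_iff_pow_eq_one, ← orderOf_dvd_iff_pow_eq_one, k7,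
      orderOf_dvd_iff_pow_eq_one, orderOf_dvd_iff_pow_eq_one]
    exact hx
  have h5 : L G (p * (p ^ a * m)) = L G (p ^ a * m) +
      Nat.card {x : G // x ^ (p * (p ^ a * m)) = 1 ∧ x ^ (p ^ a * m) ≠ 1} := by
    rw [L_eq_ncard, L_eq_ncard]
    change _ = _ + {x : G | x ^ (p * (p ^ a * m)) = 1 ∧ x ^ (p ^ a * m) ≠ 1}.ncard
    rw [← Set.ncard_union_eq (Set.disjoint_left.2 fun x h1 h2 => h2.2 h1)]
    congr 1
    ext x
    simp only [Set.mem_union, Set.mem_ofPred_eq]
    refine ⟨fun hx => by tauto, ?_⟩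
    rintro (hx | hx)
    · rw [mul_comm, pow_mul, hx, one_pow]
    · exact hx.1
  rw [h5, hL, Nat.dvd_add_left h4, pow_succ] at h3
  exact hm (Nat.dvd_of_mul_dvd_mul_left (pow_pos hp.out.pos a) h3)

theorem eq_of_prime_pow [IsSimpleGroup G] (hp : p.Prime) {k : ℕ} (hd : p ^ k ∣ Nat.card G)
    (hL : L G (p ^ k) = p ^ k) : p ^ k = 1 ∨ p ^ k = Nat.card G := by
  have := Fact.mk hp
  obtain ⟨H, hH⟩ := Sylow.exists_subgroup_card_pow_prime p hd
  have h1 := normal_of_eq (eq_of_le hL hH (Or.inl fun x hx => by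
    have := congrArg Subtype.val (pow_card_eq_one' (x := (⟨x, hx⟩ : H)))
    rw [hH] at this
    exact this))
  rcases h1.eq_bot_or_eq_top with rfl | rfl
  · exact Or.inl (by rw [← hH, card_bot])
  · exact Or.inr (by rw [← hH, card_top])

/-- The number of elements of order `p`. -/
noncomputable def co (G : Type*) [Group G] (p : ℕ) : ℕ := {x : G | orderOf x = p}.ncard

/-- Elements of order `p` are self-centralising. -/
def Iso (G : Type*) [Group G] (p : ℕ) : Prop :=
  ∀ x : G, orderOf x = p → centralizer ({x} : Set G) ≤ zpowers x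

theorem Iso.of_card (h : ∀ x : G, orderOf x = p → Nat.card (centralizer ({x} : Set G)) = p) :
    Iso G p := fun x hx =>
  (eq_of_le_of_card_ge (H := zpowers x) (zpowers_le.2 (mem_centralizer_singleton_iff.2 rfl))
    (by rw [h x hx, Nat.card_zpowers, hx])).ge

theorem Iso.modEq (h : Iso G p) (hp : p.Prime) (hd : p ∣ Nat.card G) (hn : ¬ p ∣ n) :
    L G n % p = 1 := by
  have := Fact.mk hp
  obtain ⟨x, hx⟩ := exists_prime_orderOf_dvd_card' p hd
  let _ : MulAction (zpowers x) {y : G // y ^ n = 1} :=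
    { smul := fun g y => ⟨g * y * (g : G)⁻¹, by rw [conj_pow, y.2]; simp⟩
      one_smul := fun y => Subtype.ext (by change ((1 : zpowers x) : G) * _ * _ = _; simp)
      mul_smul := fun a b y => Subtype.ext (by
        change ((a * b : zpowers x) : G) * y * ((a * b : zpowers x) : G)⁻¹ =
          a * (b * y * (b : G)⁻¹) * (a : G)⁻¹
        push_cast; group) }
  have h1 : IsPGroup p (zpowers x) := .of_card (n := 1) (by rw [Nat.card_zpowers, hx, pow_one])
  have h2 := h1.card_modEq_card_fixedPoints {y : G // y ^ n = 1}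
  have h3 : Nat.card (MulAction.fixedPoints (zpowers x) {y : G // y ^ n = 1}) = 1 := by
    rw [Nat.card_eq_one_iff_exists]
    refine ⟨⟨⟨1, one_pow n⟩, fun g => Subtype.ext (by change (g : G) * 1 * _ = 1; simp)⟩,
      fun y => Subtype.ext (Subtype.ext ?_)⟩
    have h4 : x * y.1.1 * x⁻¹ = y.1.1 := congrArg Subtype.val (y.2 ⟨x, mem_zpowers x⟩)
    have h5 := h x hx (mem_centralizer_singleton_iff.2 (mul_inv_eq_iff_eq_mul.1 h4).symm)
    have h6 := orderOf_dvd_of_mem_zpowers h5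
    rw [hx] at h6
    have h7 := Nat.dvd_gcd h6 (orderOf_dvd_of_pow_eq_one y.1.2)
    rw [(Nat.Prime.coprime_iff_not_dvd hp).2 hn, Nat.dvd_one, orderOf_eq_one_iff] at h7
    exact h7
  rw [h3] at h2
  rw [L, h2, Nat.mod_eq_of_lt hp.one_lt]

theorem Iso.exists_co (h : Iso G p) (hp : p.Prime) {m : ℕ} (hG : Nat.card G = p * m)
    (hm : ¬ p ∣ m) : ∃ k, co G p = m * k ∧ (m * k + 1) % p = 0 := by
  have h1 : Nat.card G = L G m + co G p := by
    have h0 : Disjoint {x : G | x ^ m = 1} {x : G | orderOf x = p} :=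
      Set.disjoint_left.2 fun x h1 (h2 : orderOf x = p) => hm (h2 ▸ orderOf_dvd_of_pow_eq_one h1)
    rw [L_eq_ncard, co, ← Set.ncard_union_eq h0, ← Set.ncard_univ]
    congr 1
    refine (Set.eq_univ_of_forall fun x => ?_).symm
    by_cases h2 : p ∣ orderOf x
    · have h3 := orderOf_pow_orderOf_div (orderOf_pos x).ne' h2
      have h4 := orderOf_dvd_of_mem_zpowers (h _ h3
        (mem_centralizer_singleton_iff.2 (Commute.self_pow x _)))
      rw [h3] at h4
      exact Or.inr (Nat.dvd_antisymm h4 h2)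
    · refine Or.inl (orderOf_dvd_iff_pow_eq_one.1 ?_)
      exact ((Nat.Prime.coprime_iff_not_dvd hp).2 h2).symm.dvd_of_dvd_mul_left
        (hG ▸ orderOf_dvd_natCard x)
  have h2 : m ∣ L G m := dvd_L (hG ▸ dvd_mul_left m p) dvd_rfl
  have h3 := h.modEq hp (hG ▸ dvd_mul_right p m) hm
  obtain ⟨k, hk⟩ : m ∣ co G p := (Nat.dvd_add_right h2).1 (h1 ▸ hG ▸ dvd_mul_left m p)
  refine ⟨k, hk, ?_⟩
  have h4 : (L G m + co G p) % p = 0 := by rw [← h1, hG, Nat.mul_mod_right]
  rw [← hk, add_comm, ← h4, Nat.add_mod (L G m), h3, Nat.add_mod_mod]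

theorem co_lt (h1 : p ≠ 1) (hn : p ∣ n) : co G p < L G n := by
  refine Set.ncard_lt_ncard ⟨fun x hx => orderOf_dvd_iff_pow_eq_one.1 (hx ▸ hn), fun h => h1 ?_⟩
  have := h (one_pow n : (1 : G) ^ n = 1)
  rw [Set.mem_ofPred_eq, orderOf_one] at this
  exact this.symm

theorem co_add_lt {r : ℕ} (h1 : p ≠ 1) (h2 : r ≠ 1) (h3 : p ≠ r) (hn : p ∣ n) (hr : r ∣ n) :
    co G p + co G r < L G n := by
  rw [co, co, ← Set.ncard_union_eq (Set.disjoint_left.2 fun x a b => h3 (a.symm.trans b))]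
  refine Set.ncard_lt_ncard ⟨?_, fun h => ?_⟩
  · rintro x (hx | hx)
    · exact orderOf_dvd_iff_pow_eq_one.1 (hx ▸ hn)
    · exact orderOf_dvd_iff_pow_eq_one.1 (hx ▸ hr)
  · rcases h (one_pow n : (1 : G) ^ n = 1) with h | h <;>
      rw [Set.mem_ofPred_eq, orderOf_one] at h
    exacts [h1 h.symm, h2 h.symm]

end Cfsg.Agent.Zm
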