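import Mathlib
import Cfsg.Agent.Zm.Tools
import Cfsg.Agent.Chev.SzPart
import Cfsg.Agent.Chev.SzLie

/-!
# Frobenius' conjecture for the Suzuki groups
-/

set_option autoImplicit false

namespace Cfsg.Agent.Zm

open Subgroup Cfsg.Agent.Chev.Sz

theorem L_cyclic (T : Type*) [Group T] [IsCyclic T] [Finite T] (n : ℕ) :
    L T n = (Nat.card T).gcd n := by
  let _ : CommGroup T := IsCyclic.commGroup
  exact IsCyclic.card_powMonoidHom_ker (G := T) n

variable {G : Type*} [Group G] [Finite G]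

/-- The non-identity solutions conjugate into `U`. -/
def E (U : Subgroup G) (n : ℕ) : Set G := {s | s ∈ conjSet U ∧ s ^ n = 1}

theorem ncard_E {U : Subgroup G} [IsCyclic U]
    (h : ∀ a x : G, a ∈ U → a ≠ 1 → x * a * x⁻¹ ∈ U → x ∈ normalizer (U : Set G)) (n : ℕ) :
    (E U n).ncard * Nat.card (normalizer (U : Set G)) + Nat.card G =
      (Nat.card U).gcd n * Nat.card G := by
  have h1 := ncard_conj_mul_card (N := normalizer (U : Set G))
    (D := {t | t ∈ U ∧ t ≠ 1 ∧ t ^ n = 1})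
    (fun g hg a ha => ⟨(mem_normalizer_iff''.1 hg a).1 ha.1, fun e => ha.2.1 (inv_conj_eq_one'.1 e),
      by rw [inv_conj_pow', ha.2.2]; simp⟩)
    fun x a ha hx => inv_mem_iff.1 (h a x⁻¹ ha.1 ha.2.1 (by simpa using hx.1))
  have h2 : {s | ∃ x : G, x⁻¹ * s * x ∈ {t | t ∈ U ∧ t ≠ 1 ∧ t ^ n = 1}} = E U n := by
    ext s
    simp only [E, conjSet, Set.mem_ofPred_eq, Ne, inv_conj_eq_one', inv_conj_pow']
    tauto
  have h3 : {t | t ∈ U ∧ t ≠ 1 ∧ t ^ n = 1}.ncard + 1 = (Nat.card U).gcd n := by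
    rw [← L_cyclic, L_eq_ncard, ← Set.ncard_image_of_injective _ Subtype.val_injective,
      ← Set.ncard_insert_of_notMem (a := 1) (by simp)]
    congr 1
    ext t
    simp only [Set.mem_insert_iff, Set.mem_ofPred_eq, Set.mem_image]
    constructor
    · rintro (rfl | ⟨k1, -, k2⟩)
      · exact ⟨1, one_pow n, rfl⟩
      · exact ⟨⟨t, k1⟩, Subtype.ext k2, rfl⟩
    · rintro ⟨t, k1, rfl⟩
      by_cases k2 : (t : G) = 1
      · exact Or.inl k2
      · exact Or.inr ⟨t.2, k2, congrArg Subtype.val k1⟩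
  rw [← h2, h1, ← h3, add_mul, one_mul]

theorem sum_E_lt (n : ℕ) {A B C D : Subgroup G} (h1 : (Nat.card A).Coprime (Nat.card B))
    (h2 : (Nat.card A).Coprime (Nat.card C)) (h3 : (Nat.card A).Coprime (Nat.card D))
    (h4 : (Nat.card B).Coprime (Nat.card C)) (h5 : (Nat.card B).Coprime (Nat.card D))
    (h6 : (Nat.card C).Coprime (Nat.card D)) :
    (E A n).ncard + (E B n).ncard + (E C n).ncard + (E D n).ncard < L G n := by
  have k : ∀ {X Y : Subgroup G}, (Nat.card X).Coprime (Nat.card Y) → Disjoint (E X n) (E Y n) :=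
    fun h => (disjoint_conjSet h).mono (fun _ h => h.1) fun _ h => h.1
  rw [← Set.ncard_union_eq (k h1), ← Set.ncard_union_eq (Set.disjoint_union_left.2 ⟨k h2, k h4⟩),
    ← Set.ncard_union_eq (Set.disjoint_union_left.2 ⟨Set.disjoint_union_left.2 ⟨k h3, k h5⟩, k h6⟩)]
  refine Set.ncard_lt_ncard ⟨?_, fun h => ?_⟩
  · rintro x (((hx | hx) | hx) | hx) <;> exact hx.2
  · rcases h (one_pow n : (1 : G) ^ n = 1) with (((hx | hx) | hx) | hx) <;> exact hx.1.1 rfl

theorem sz_arith1 {Q a b c x y z n e0 e1 e2 : ℕ} (hQ : 0 < Q) (ha : 0 < a * x) (hb : 0 < b * y)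
    (hc : 0 < c * z)
    (hI : 4 * Q = 2 * (b * y * (c * z)) + a * x * (c * z) + a * x * (b * y))
    (h0 : e0 * 2 + Q * (b * y * (c * z)) = a * (Q * (b * y * (c * z))))
    (h1 : e1 * 4 + Q * (a * x * (c * z)) = b * (Q * (a * x * (c * z))))
    (h2 : e2 * 4 + Q * (a * x * (b * y)) = c * (Q * (a * x * (b * y))))
    (h3 : Q * Q + e0 + e1 + e2 ≤ n) (h4 : n ≤ Q * (a * b * c)) :
    Q * (a * x * (b * y * (c * z))) ≤ n := by
  have hx := Nat.pos_of_mul_pos_left ha
  have hy := Nat.pos_of_mul_pos_left hb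
  have hz := Nat.pos_of_mul_pos_left hc
  have h5 : 0 < Q * (a * b * c) := Nat.mul_pos hQ (Nat.mul_pos (Nat.mul_pos
    (Nat.pos_of_mul_pos_right ha) (Nat.pos_of_mul_pos_right hb)) (Nat.pos_of_mul_pos_right hc))
  have h6 : Q * (a * b * c) * (2 * (y * z) + x * z + x * y) ≤ 4 * n := by
    have : Q * (4 * Q) = Q * (2 * (b * y * (c * z)) + a * x * (c * z) + a * x * (b * y)) := by
      rw [hI]
    nlinarith
  have h7 : 2 * (y * z) + x * z + x * y ≤ 4 :=
    Nat.le_of_mul_le_mul_left (h6.trans (by omega)) h5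
  have k1 := Nat.mul_le_mul hy hz
  have k2 := Nat.mul_le_mul hx hz
  have k3 := Nat.mul_le_mul hx hy
  obtain ⟨rfl, rfl⟩ := mul_eq_one.1 (show y * z = 1 by omega)
  obtain rfl : x = 1 := by omega
  nlinarith

theorem sz_arith2 {Q a b c x y e n : ℕ} (hQ : 16 < Q) (ha : 0 < a) (hb : 0 < b * x) (hc : 0 < c * y)
    (h : Q * (b * x * (c * y)) * a ≤ e * 4 + Q * (b * x * (c * y))) (h3 : e < n)
    (h4 : n ≤ 2 * (a * b * c)) : a = 1 := by
  by_contra h1
  obtain ⟨a, rfl⟩ : ∃ k, a = k + 2 := ⟨a - 2, by omega⟩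
  have k1 : b * c ≤ b * x * (c * y) :=
    Nat.mul_le_mul (Nat.le_mul_of_pos_right _ (Nat.pos_of_mul_pos_left hb))
      (Nat.le_mul_of_pos_right _ (Nat.pos_of_mul_pos_left hc))
  have k2 : 16 * (b * c) ≤ Q * (b * x * (c * y)) := Nat.mul_le_mul hQ.le k1
  rw [mul_assoc (a + 2)] at h4
  generalize Q * (b * x * (c * y)) = M at h k2
  generalize b * c = N at h4 k2
  nlinarith [Nat.mul_le_mul_left a k2]

theorem key_sz0 {F : Type*} [Field F] {m : ℕ} [SzF F m] [IsSimpleGroup (Cfsg.Sz F m)] :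
    Key (Cfsg.Sz F m) := fun n h1 hL => by
  obtain ⟨g1, g2, f1, f2, c1, c2, n1, n2, -⟩ := exists_two_tori F m
  have c0 : Nat.card (torH F m) = _ := card_torH
  have n0 : Nat.card (normalizer (torH F m : Set (Cfsg.Sz F m))) = _ := card_normalizer_torH
  have t0 : IsTorus (torH F m) := isTorus_iff.2 ⟨inferInstance, Or.inl c0⟩
  have := f1.isTorus.isCyclic
  have := f2.isTorus.isCyclic
  have e0 := ncard_E (fun a x => t0.isPart.mem_normalizer_of_conj) n
  have e1 := ncard_E (fun a x => f1.isTorus.isPart.mem_normalizer_of_conj) n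
  have e2 := ncard_E (fun a x => f2.isTorus.isPart.mem_normalizer_of_conj) n
  have hm := tori_mul (m := m) F
  have h8 := eight_le_card F
  have hr := two_pow_lt_card (m := m) F
  have k0 := coprime_sub_one_sq_add_one (m := m) F
  have k1 := (coprime_card_sq_add_one (m := m) F).pow_left 2
  rw [← hm] at k0 k1
  have hlt := sum_E_lt n (A := sylU F m) (B := torH F m) (C := centralizer {g1})
    (D := centralizer {g2}) coprime_card_sylU_torH
    (by rw [card_sylU, c1]; exact k1.coprime_mul_right_right)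
    (by rw [card_sylU, c2]; exact k1.coprime_mul_left_right)
    (by rw [c0, c1]; exact k0.coprime_mul_right_right)
    (by rw [c0, c2]; exact k0.coprime_mul_left_right)
    (by rw [c1, c2]; exact coprime_tori F)
  have hG : Nat.card (Cfsg.Sz F m) = Nat.card F ^ 2 * ((Nat.card F - 1) *
      ((Nat.card F + 2 ^ (m + 1) + 1) * (Nat.card F - 2 ^ (m + 1) + 1))) := by
    rw [card_Sz, hm]; ring
  have hI : 4 * Nat.card F ^ 2 =
      2 * ((Nat.card F + 2 ^ (m + 1) + 1) * (Nat.card F - 2 ^ (m + 1) + 1)) +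
      (Nat.card F - 1) * (Nat.card F - 2 ^ (m + 1) + 1) +
      (Nat.card F - 1) * (Nat.card F + 2 ^ (m + 1) + 1) := by
    rw [hm, add_assoc, ← mul_add, show Nat.card F - 2 ^ (m + 1) + 1 +
      (Nat.card F + 2 ^ (m + 1) + 1) = 2 * Nat.card F + 2 by omega]
    obtain ⟨q, hq⟩ : ∃ q, Nat.card F = q + 1 := ⟨Nat.card F - 1, by omega⟩
    rw [hq, Nat.add_sub_cancel]; ring
  have hs : 4 ∣ n → (E (sylU F m) n).ncard + 1 = Nat.card F ^ 2 * Nat.card F ^ 2 := fun h4 => by
    have : E (sylU F m) n = conjSet (sylU F m) := Set.ext fun s => ⟨fun h => h.1, fun h => ⟨h, by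
      obtain ⟨-, x, hx⟩ := h
      have h5 := pow_four_of_mem_sylU hx
      rw [inv_conj_pow', inv_conj_eq_one'] at h5
      obtain ⟨k, rfl⟩ := h4
      rw [pow_mul, h5, one_pow]⟩⟩
    rw [this, ncard_conjSet_sylU]
    obtain ⟨q, hq⟩ : ∃ q, Nat.card F ^ 2 = q + 1 := ⟨Nat.card F ^ 2 - 1, by
      have : 0 < Nat.card F ^ 2 := by positivity
      omega⟩
    rw [hq, Nat.add_sub_cancel]; ring
  have hg : ¬ 4 ∣ n → (Nat.card F ^ 2).gcd n ≤ 2 := fun h4 => by
    obtain ⟨j, -, hj⟩ := (Nat.dvd_prime_pow Nat.prime_two).1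
      (show (Nat.card F ^ 2).gcd n ∣ 2 ^ ((2 * m + 1) * 2) by
        rw [pow_mul, ← card_F F]; exact Nat.gcd_dvd_left _ _)
    rw [hj]
    by_contra h5
    have h6 : 2 ≤ j := by
      by_contra h6
      interval_cases j <;> omega
    exact h4 ((pow_dvd_pow 2 h6).trans (hj ▸ Nat.gcd_dvd_right _ n))
  have two : n = 2 → n = 1 ∨ n = Nat.card (Cfsg.Sz F m) := by
    rintro rfl
    exact eq_of_prime_pow (k := 1) Nat.prime_two h1 hL
  have hle := Nat.le_of_dvd Nat.card_pos h1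
  rw [n0, c0, hG] at e0
  rw [n1, c1, hG] at e1
  rw [n2, c2, hG] at e2
  rw [hL] at hlt
  have p0 : 0 < Nat.card F - 1 := by omega
  have p1 : 0 < Nat.card F + 2 ^ (m + 1) + 1 := Nat.succ_pos _
  have p2 : 0 < Nat.card F - 2 ^ (m + 1) + 1 := Nat.succ_pos _
  have pQ : 16 < Nat.card F ^ 2 := by nlinarith
  rw [hG] at h1 hle two ⊢
  clear hG hm k0 k1 c0 c1 c2 n0 n1 n2
  generalize Nat.card F - 1 = A at *
  generalize Nat.card F + 2 ^ (m + 1) + 1 = B at *
  generalize Nat.card F - 2 ^ (m + 1) + 1 = C at *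
  generalize Nat.card F ^ 2 = Q at *
  have hd : n ∣ Q.gcd n * (A.gcd n * B.gcd n * C.gcd n) := by
    have l1 : n.gcd (Q * (A * (B * C))) ∣ n.gcd Q * n.gcd (A * (B * C)) := gcd_mul_dvd_mul_gcd n _ _
    have l2 : n.gcd (A * (B * C)) ∣ n.gcd A * n.gcd (B * C) := gcd_mul_dvd_mul_gcd n _ _
    have l3 : n.gcd (B * C) ∣ n.gcd B * n.gcd C := gcd_mul_dvd_mul_gcd n _ _
    rw [Nat.gcd_eq_left h1] at l1
    rw [Nat.gcd_comm Q, Nat.gcd_comm A, Nat.gcd_comm B, Nat.gcd_comm C, mul_assoc]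
    exact l1.trans (mul_dvd_mul_left _ (l2.trans (mul_dvd_mul_left _ l3)))
  obtain ⟨x, hx⟩ := Nat.gcd_dvd_left A n
  obtain ⟨y, hy⟩ := Nat.gcd_dvd_left B n
  obtain ⟨z, hz⟩ := Nat.gcd_dvd_left C n
  have pg : 0 < Q.gcd n := Nat.gcd_pos_of_pos_left _ (by omega)
  have qg : Q.gcd n ≤ Q := Nat.gcd_le_left _ (by omega)
  generalize A.gcd n = a at *
  generalize B.gcd n = b at *
  generalize C.gcd n = c at *
  generalize Q.gcd n = g at *
  subst hx hy hz
  have pa := Nat.pos_of_mul_pos_right p0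
  have pb := Nat.pos_of_mul_pos_right p1
  have pc := Nat.pos_of_mul_pos_right p2
  have hn := Nat.le_of_dvd (by positivity) hd
  have e0' : (E (torH F m) n).ncard * 2 + Q * (b * y * (c * z)) = a * (Q * (b * y * (c * z))) :=
    Nat.eq_of_mul_eq_mul_left p0 (by linarith)
  have e1' : (E (centralizer {g1}) n).ncard * 4 + Q * (a * x * (c * z)) =
      b * (Q * (a * x * (c * z))) := Nat.eq_of_mul_eq_mul_left p1 (by linarith)
  have e2' : (E (centralizer {g2}) n).ncard * 4 + Q * (a * x * (b * y)) =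
      c * (Q * (a * x * (b * y))) := Nat.eq_of_mul_eq_mul_left p2 (by linarith)
  by_cases h4 : 4 ∣ n
  · have := hs h4
    exact Or.inr (le_antisymm hle (sz_arith1 (by omega) p0 p1 p2 hI e0' e1' e2' (by omega)
      (hn.trans (Nat.mul_le_mul_right _ qg))))
  · have h5 := hn.trans (Nat.mul_le_mul_right _ (hg h4))
    obtain rfl : a = 1 := sz_arith2 (n := n) (e := (E (torH F m) n).ncard) pQ pa p1 p2 (by linarith) (by omega) h5
    obtain rfl : b = 1 := sz_arith2 (n := n) (e := (E (centralizer {g1}) n).ncard) pQ pb p0 p2 (by linarith)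
      (by omega) (by linarith)
    obtain rfl : c = 1 := sz_arith2 (n := n) (e := (E (centralizer {g2}) n).ncard) pQ pc p0 p1 (by linarith)
      (by omega) (by linarith)
    rcases (by omega : n = 1 ∨ n = 2) with h | h
    exacts [Or.inl h, two h]

omit [Finite G] in
theorem key_sz [IsSimpleGroup G] (h : Lie.IsoSuzuki G) : Key G := by
  obtain ⟨F, _, _, m, hm, hF, ⟨e⟩⟩ := h
  have := SzF.of_card hm hF
  have := (e.trans (szEquiv F m).symm).symm.isSimpleGroup
  exact .of_equiv (e.trans (szEquiv F m).symm) key_sz0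

end Cfsg.Agent.Zm
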