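import Mathlib
import Cfsg.Agent.Zm.Sz
import Cfsg.Agent.Cl.PSL2Struct
import Cfsg.Agent.Cl.LinearBasic

/-!
# Frobenius' conjecture for `L₂(q)`
-/

set_option autoImplicit false

namespace Cfsg.Agent.Zm

open Subgroup Cfsg.Agent.Chev.Sz Cfsg.Agent.Cl.L2 MulAction

theorem l2_arith {q d a b y e n : ℕ} (hq : 4 ≤ q) (ha : 0 < a) (hb : 0 < b * y)
    (h : e * 2 + q * (d * (b * y)) = a * (q * (d * (b * y)))) (h3 : e < n)
    (h4 : n ≤ d * (a * b)) : a = 1 := by
  by_contra h1
  obtain ⟨a, rfl⟩ : ∃ k, a = k + 2 := ⟨a - 2, by omega⟩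
  have k1 : 4 * (d * b) ≤ q * (d * (b * y)) := Nat.mul_le_mul hq (Nat.mul_le_mul_left _
    (Nat.le_mul_of_pos_right _ (Nat.pos_of_mul_pos_left hb)))
  rw [mul_left_comm] at h4
  generalize q * (d * (b * y)) = M at h k1
  generalize d * b = N at h4 k1
  nlinarith [Nat.mul_le_mul_left a k1]

theorem key_l20 {F : Type*} [Field F] [Finite F] (h4 : 4 ≤ Nat.card F)
    [IsSimpleGroup (Matrix.ProjectiveSpecialLinearGroup (Fin 2) F)] :
    Key (Matrix.ProjectiveSpecialLinearGroup (Fin 2) F) := fun n h1 hL => by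
  obtain ⟨p, hp⟩ := CharP.exists F
  have hp' : Fact p.Prime := ⟨CharP.char_is_prime F p⟩
  have hd2 : Nat.gcd 2 (Nat.card F - 1) ≤ 2 := Nat.gcd_le_left _ two_pos
  have hd0 : 0 < Nat.gcd 2 (Nat.card F - 1) := gcd_pos
  obtain ⟨g0, f1, f2, f3⟩ := exists_fixS (F := F)
  obtain ⟨g1, f4, -⟩ := exists_nofixS (F := F)
  have u0 : g0 ≠ 1 := by
    rintro rfl
    rw [orderOf_one] at f3
    omega
  have t0 : tau (emb g0) ≠ 4 := fun h => by
    obtain ⟨x, hx⟩ := exists_mem_uniS h
    exact inf_ne_pt 0 ((eq_of_mem_uniS u0 hx f1).symm.trans (eq_of_mem_uniS u0 hx f2))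
  have t1 := tauS_ne_four_of_nofix f4
  have c0 := card_torS_mul_of_fix t0 f1
  have c1 := card_torS_mul_of_nofix f4
  have := isCyclic_torS t0
  have := isCyclic_torS t1
  have e0 := ncard_E (U := torS g0) (fun a x k1 k2 k3 => by
    rw [normalizer_torS t0]; exact mem_ntorS_of_conj_mem u0 k1 k2 k3) n
  have e1 := ncard_E (U := torS g1) (fun a x k1 k2 k3 => by
    rw [normalizer_torS t1]; exact mem_ntorS_of_conj_mem (ne_one_of_tauS t1) k1 k2 k3) n
  rw [normalizer_torS t0, card_ntorS t0] at e0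
  rw [normalizer_torS t1, card_ntorS t1] at e1
  have cu := card_uniS (F := F) inf
  have hG := Cl.card_psl_two_mul (F := F)
  have hs : p ∣ n → (E (uniS (F := F) inf) n).ncard + 1 = Nat.card F * Nat.card F := fun h => by
    have : E (uniS (F := F) inf) n = conjSet (uniS inf) := Set.ext fun s => ⟨fun h => h.1, fun k => ⟨k, by
      obtain ⟨k1, x, hx⟩ := k
      have h5 := orderOf_of_mem_uniS p hx (fun e => k1 (inv_conj_eq_one'.1 e))
      rw [orderOf_inv_conj] at h5
      exact orderOf_dvd_iff_pow_eq_one.1 (h5 ▸ h)⟩⟩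
    have k := ncard_conjSet_mul_card (A := uniS (F := F) inf) (N := stabilizer _ (Cl.L2.inf : P1 F))
      (fun g hg a ha => (mem_normalizer_iff''.1 (normalizer_uniS (F := F) inf ▸ hg) a).1 ha)
      fun x a ha h1 hx => by
        have k1 := (mem_uniS.1 hx).1
        rw [mul_smul, mul_smul, inv_smul_eq_iff] at k1
        exact (eq_of_mem_uniS h1 ha k1).symm
    rw [← (stabilizer (Matrix.ProjectiveSpecialLinearGroup (Fin 2) F)
      (Cl.L2.inf : P1 F)).index_mul_card, index_stabilizerS, cu, ← mul_assoc] at k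
    rw [this, Nat.eq_of_mul_eq_mul_right Nat.card_pos k]
    obtain ⟨q, hq⟩ : ∃ q, Nat.card F = q + 1 := ⟨Nat.card F - 1, by omega⟩
    rw [hq, Nat.add_sub_cancel]; ring
  have hg : ¬ p ∣ n → (Nat.card F).gcd n = 1 := fun h => by
    have := Fintype.ofFinite F
    obtain ⟨k, -, hk⟩ := FiniteField.card F p
    rw [Nat.card_eq_fintype_card, hk]
    exact ((Nat.Prime.coprime_iff_not_dvd hp'.out).2 h).pow_left _
  have two : n = 2 → n = 1 ∨ n = Nat.card (Matrix.ProjectiveSpecialLinearGroup (Fin 2) F) := by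
    rintro rfl
    exact eq_of_prime_pow (k := 1) Nat.prime_two h1 hL
  have hle := Nat.le_of_dvd Nat.card_pos h1
  have p0 : 0 < Nat.card (torS g0) := Nat.card_pos
  have p1 : 0 < Nat.card (torS g1) := Nat.card_pos
  have hd1 : Nat.gcd 2 (Nat.card F - 1) = 1 → ¬ 2 ∣ Nat.card F - 1 := fun h k => by
    rw [Nat.gcd_eq_left k] at h; omega
  have k01 : (Nat.card (torS g0)).Coprime (Nat.card (torS g1)) := by
    refine Nat.eq_one_iff_not_exists_prime_dvd.2 fun r hr hd => ?_
    obtain ⟨a, ha⟩ := hd.trans (Nat.gcd_dvd_left _ _)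
    obtain ⟨b, hb⟩ := hd.trans (Nat.gcd_dvd_right _ _)
    rw [ha] at c0
    rw [hb] at c1
    generalize Nat.gcd 2 (Nat.card F - 1) = d at *
    have k1 : r * d ∣ 2 := by
      have k2 : r * d ∣ Nat.card F - 1 := ⟨a, by rw [← c0]; ring⟩
      have k3 : r * d ∣ Nat.card F - 1 + 2 :=
        ⟨b, by rw [show Nat.card F - 1 + 2 = Nat.card F + 1 by omega, ← c1]; ring⟩
      exact (Nat.dvd_add_right k2).1 k3
    have k2 := Nat.le_of_dvd two_pos k1
    have k3 := hr.two_le
    have k4 : d = 1 := by nlinarith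
    obtain rfl : r = 2 := by nlinarith
    exact hd1 k4 ⟨a * d, by rw [← mul_assoc, c0]⟩
  have ku0 : (Nat.card F).Coprime (Nat.card (torS g0)) :=
    Nat.Coprime.coprime_dvd_right (Dvd.intro _ c0)
      ((Nat.coprime_self_sub_right (by omega)).2 (Nat.coprime_one_right _))
  have ku1 : (Nat.card F).Coprime (Nat.card (torS g1)) :=
    Nat.Coprime.coprime_dvd_right (Dvd.intro _ c1) (by simp)
  have hlt := sum_E_lt n (A := uniS (F := F) inf) (B := torS g0) (C := torS g1) (D := ⊥)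
    (cu ▸ ku0) (cu ▸ ku1) (by simp) k01 (by simp) (by simp)
  rw [hL] at hlt
  generalize Nat.gcd 2 (Nat.card F - 1) = d at *
  generalize Nat.card (torS g0) = A at *
  generalize Nat.card (torS g1) = B at *
  generalize Nat.card F = q at *
  have hG' : Nat.card (Matrix.ProjectiveSpecialLinearGroup (Fin 2) F) = q * (d * (A * B)) := by
    refine Nat.eq_of_mul_eq_mul_left hd0 ?_
    rw [hG, show q ^ 2 - 1 = (q + 1) * (q - 1) from Nat.sq_sub_sq q 1, ← c0, ← c1]; ring
  rw [hG'] at h1 hle two e0 e1 ⊢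
  have hI : A * d + B * d = 2 * q := by omega
  have hd : n ∣ q.gcd n * (d * (A.gcd n * B.gcd n)) := by
    have l1 : n.gcd (q * (d * (A * B))) ∣ n.gcd q * n.gcd (d * (A * B)) := gcd_mul_dvd_mul_gcd n _ _
    have l2 : n.gcd (d * (A * B)) ∣ n.gcd d * n.gcd (A * B) := gcd_mul_dvd_mul_gcd n _ _
    have l3 : n.gcd (A * B) ∣ n.gcd A * n.gcd B := gcd_mul_dvd_mul_gcd n _ _
    rw [Nat.gcd_eq_left h1] at l1
    rw [Nat.gcd_comm q, Nat.gcd_comm A, Nat.gcd_comm B]
    exact l1.trans (mul_dvd_mul_left _ (l2.trans (mul_dvd_mul (Nat.gcd_dvd_right _ _) l3)))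
  obtain ⟨x, hx⟩ := Nat.gcd_dvd_left A n
  obtain ⟨y, hy⟩ := Nat.gcd_dvd_left B n
  have pg : 0 < q.gcd n := Nat.gcd_pos_of_pos_left _ (by omega)
  have qg : q.gcd n ≤ q := Nat.gcd_le_left _ (by omega)
  generalize A.gcd n = a at *
  generalize B.gcd n = b at *
  generalize q.gcd n = g at *
  subst hx hy
  have pa := Nat.pos_of_mul_pos_right p0
  have pb := Nat.pos_of_mul_pos_right p1
  have hn := Nat.le_of_dvd (by positivity) hd
  have e0' : (E (torS g0) n).ncard * 2 + q * (d * (b * y)) = a * (q * (d * (b * y))) :=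
    Nat.eq_of_mul_eq_mul_left p0 (by linarith)
  have e1' : (E (torS g1) n).ncard * 2 + q * (d * (a * x)) = b * (q * (d * (a * x))) :=
    Nat.eq_of_mul_eq_mul_left p1 (by linarith)
  by_cases h : p ∣ n
  · have k1 := hs h
    have k2 := hn.trans (Nat.mul_le_mul_right _ qg)
    have k3 : q * (d * (a * b)) * (x + y) ≤ 2 * n := by
      have : q * (a * x * d + b * y * d) = q * (2 * q) := by rw [hI]
      nlinarith
    have k4 : x + y ≤ 2 := Nat.le_of_mul_le_mul_left (k3.trans (by omega)) (by positivity)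
    have px := Nat.pos_of_mul_pos_left p0
    have py := Nat.pos_of_mul_pos_left p1
    obtain rfl : x = 1 := by omega
    obtain rfl : y = 1 := by omega
    exact Or.inr (le_antisymm hle (by linarith))
  · obtain rfl := hg h
    rw [one_mul] at hn
    obtain rfl : a = 1 := l2_arith (n := n) h4 pa p1 e0' (by omega) hn
    obtain rfl : b = 1 := l2_arith (n := n) h4 pb p0 e1' (by omega) (by linarith)
    rcases (by omega : n = 1 ∨ n = 2) with h | h
    exacts [Or.inl h, two h]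

theorem key_l2 {G : Type*} [Group G] [IsSimpleGroup G] {F : Type*} [Field F] [Fintype F]
    (h : 4 ≤ Fintype.card F) (e : G ≃* Matrix.ProjectiveSpecialLinearGroup (Fin 2) F) : Key G :=
  haveI := e.symm.isSimpleGroup
  .of_equiv e (key_l20 (Nat.card_eq_fintype_card (α := F) ▸ h))

end Cfsg.Agent.Zm
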