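import Mathlib
import Cfsg.Prelude.Def_Classical
import Cfsg.Agent.Zm.Tools
import Cfsg.Agent.Cl.LinearSylow
import Cfsg.Agent.FG.C1Base
import Cfsg.Agent.Inv.A7A
import Cfsg.Agent.Inv.M11A
import Cfsg.Agent.Inv.SieveExtra
import Cfsg.Agent.Inv.BenderOrd
import Cfsg.Agent.S1001

/-!
# Frobenius' conjecture for `A₇`, `L₃(3)`, `U₃(3)`, `M₁₁`
-/

set_option autoImplicit false
set_option maxRecDepth 100000

namespace Cfsg.Agent.Zm

open Subgroup Cfsg.Agent.Inv

theorem ex_of_mat {H Y F : Type*} [Group H] [Finite H] [Group Y] [Field F] {d p e : ℕ}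
    [hp : Fact p.Prime] [CharP F p] (ι : H →* Matrix (Fin d) (Fin d) F)
    (hι : Function.Injective ι) (π : H →* Y) (hπ : Function.Surjective π) (hn : d ≤ p ^ e) :
    Ex Y p e := fun y k hy => by
  obtain ⟨x, rfl⟩ := hπ y
  obtain ⟨a, m, hm, e1⟩ := Nat.exists_eq_pow_mul_and_not_dvd (orderOf_pos x).ne' p hp.out.ne_one
  have h1 : ι (x ^ m) ^ p ^ a = 1 := by
    rw [← map_pow, ← pow_mul, mul_comm, ← e1, pow_orderOf_eq_one, map_one]
  have h2 := Cl.pow_card_eq_zero_of_isNilpotent (N := ι (x ^ m) - 1)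
    ⟨p ^ a, by rw [← Cl.matrix_pow_char_pow_sub_one p, h1, sub_self]⟩
  have h3 : (x ^ m) ^ p ^ e = 1 := hι (by
    have := Cl.matrix_pow_char_pow_sub_one p (ι (x ^ m)) e
    rw [pow_eq_zero_of_le (by simpa using hn) h2, sub_eq_zero] at this
    rw [map_pow, this, map_one])
  have h4 : (π x ^ p ^ e) ^ m = 1 := by
    rw [← pow_mul, mul_comm, pow_mul, ← map_pow, ← map_pow, h3, map_one]
  have h5 : (π x ^ p ^ e) ^ p ^ k = 1 := by rw [← pow_mul, mul_comm, pow_mul, hy, one_pow]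
  have := Nat.dvd_gcd (orderOf_dvd_of_pow_eq_one h4) (orderOf_dvd_of_pow_eq_one h5)
  rwa [(((Nat.Prime.coprime_iff_not_dvd hp.out).2 hm).symm.pow_right k).gcd_eq_one, Nat.dvd_one,
    orderOf_eq_one_iff] at this

variable {G : Type*} [Group G] [Finite G]

theorem Iso.rule {p m c n : ℕ} (h : Iso G p) (hp : p.Prime) (hG : Nat.card G = p * m)
    (hm : ¬ p ∣ m) (hc : ∀ k < c, (m * k + 1) % p ≠ 0) :
    m * c ≤ co G p ∧ (¬ p ∣ n → L G n % p = 1) := by
  obtain ⟨k, h1, h2⟩ := h.exists_co hp hG hm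
  exact ⟨h1 ▸ Nat.mul_le_mul_left m (not_lt.1 fun h3 => hc k h3 h2),
    h.modEq hp (hG ▸ dvd_mul_right p m)⟩

variable [IsSimpleGroup G]

theorem ex_two (hG : ¬ IsMulCommutative G) {e : ℕ} (h1 : 2 ∣ Nat.card G)
    (h2 : ¬ 2 ^ (e + 2) ∣ Nat.card G) : Ex G 2 e :=
  ex_of_not_isCyclic h2 (FG.C1.not_isCyclic_sylow_two hG h1)

theorem key_7920 (hG : ¬ IsMulCommutative G) (hc : Nat.card G = 7920) : Key G := fun n h1 hL => by
  obtain ⟨a, χ, θ, θ', st⟩ := M11.exists_stage1 hc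
  have i11 : Iso G 11 := fun x hx g hg => (M11.eleven hc hx).1.mem_of_comm (mem_zpowers x)
    (by rintro rfl; simp at hx) (mem_centralizer_singleton_iff.1 hg).symm
  have i5 : Iso G 5 := fun x hx g hg => (M11.five hc (st.deg_a 0) hx).1.mem_of_comm (mem_zpowers x)
    (by rintro rfl; simp at hx) (mem_centralizer_singleton_iff.1 hg).symm
  obtain ⟨a1, a2⟩ := i11.rule (m := 720) (c := 2) (n := n) (by norm_num) hc (by norm_num) (by decide)
  obtain ⟨b1, b2⟩ := i5.rule (m := 1584) (c := 1) (n := n) (by norm_num) hc (by norm_num) (by decide)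
  have c1 := (ex_two (e := 3) hG (by rw [hc]; norm_num) (by rw [hc]; norm_num)).not_dvd
    Nat.prime_two hL
  rw [hL] at a2 b2
  rw [hc] at h1 c1 ⊢
  refine (by decide +kernel : ∀ n ∈ Nat.divisors 7920, (¬ 11 ∣ n → n % 11 = 1) →
    (¬ 5 ∣ n → n % 5 = 1) → (11 ∣ n → 1440 < n) → (5 ∣ n → 1584 < n) →
    (11 ∣ n → 5 ∣ n → 3024 < n) → (2 ^ 3 ∣ n → ¬ 2 * n ∣ 7920) → n = 1 ∨ n = 7920) n
    (Nat.mem_divisors.2 ⟨h1, by norm_num⟩) a2 b2 (fun h => ?_) (fun h => ?_) (fun h h' => ?_) c1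
  · have := co_lt (G := G) (by norm_num) h; omega
  · have := co_lt (G := G) (by norm_num) h; omega
  · have := co_add_lt (G := G) (by norm_num) (by norm_num) (by norm_num) h h'; omega

theorem key_2520 (hG : ¬ IsMulCommutative G) (hc : Nat.card G = 2520) : Key G := fun n h1 hL => by
  have := Fintype.ofFinite G
  have i7 : Iso G 7 := .of_card fun x hx => (A7.seven hc hx).1
  have h5 : Fact (Nat.Prime 5) := ⟨by norm_num⟩
  have i5 : Iso G 5 := .of_card fun x hx => by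
    have hs : PB.Setup 5 x := ⟨h5.out, hx, by rw [hc]; norm_num⟩
    by_contra h
    have h3 := Sieve.testExtra_sound (by rw [hc]; norm_num) hs
      (extra := fun _ _ c _ => !(Nat.beq c 1)) fun e l S E co mu D hN _ L hL => by
        rw [Bool.not_eq_true', ← Bool.not_eq_true, Nat.beq_eq]
        exact fun h4 => h (hs.card_C.trans (by rw [h4]))
    rw [hc] at h3
    revert h3
    decide +kernel
  obtain ⟨a1, a2⟩ := i7.rule (m := 360) (c := 2) (n := n) (by norm_num) hc (by norm_num) (by decide)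
  obtain ⟨b1, b2⟩ := i5.rule (m := 504) (c := 1) (n := n) (by norm_num) hc (by norm_num) (by decide)
  have c1 := (ex_two (e := 2) hG (by rw [hc]; norm_num) (by rw [hc]; norm_num)).not_dvd
    Nat.prime_two hL
  rw [hL] at a2 b2
  rw [hc] at h1 c1 ⊢
  refine (by decide +kernel : ∀ n ∈ Nat.divisors 2520, (¬ 7 ∣ n → n % 7 = 1) →
    (¬ 5 ∣ n → n % 5 = 1) → (7 ∣ n → 720 < n) → (5 ∣ n → 504 < n) →
    (7 ∣ n → 5 ∣ n → 1224 < n) → (2 ^ 2 ∣ n → ¬ 2 * n ∣ 2520) → n = 1 ∨ n = 2520) n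
    (Nat.mem_divisors.2 ⟨h1, by norm_num⟩) a2 b2 (fun h => ?_) (fun h => ?_) (fun h h' => ?_) c1
  · have := co_lt (G := G) (by norm_num) h; omega
  · have := co_lt (G := G) (by norm_num) h; omega
  · have := co_add_lt (G := G) (by norm_num) (by norm_num) (by norm_num) h h'; omega

theorem key_5616 (hG : ¬ IsMulCommutative G) (hc : Nat.card G = 5616) (h3 : Ex G 3 1) : Key G :=
  fun n h1 hL => by
  have i : Iso G 13 := fun x hx => (S1001.result 13 3 4 (by norm_num) hc x hx).le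
  obtain ⟨a1, a2⟩ := i.rule (m := 432) (c := 4) (n := n) (by norm_num) hc (by norm_num) (by decide)
  have c1 := (ex_two (e := 3) hG (by rw [hc]; norm_num) (by rw [hc]; norm_num)).not_dvd
    Nat.prime_two hL
  have c2 := h3.not_dvd Nat.prime_three hL
  have c3 : n ≠ 3 ^ 3 := by
    rintro rfl
    have := eq_of_prime_pow Nat.prime_three h1 hL
    omega
  rw [hL] at a2
  rw [hc] at h1 c1 c2 ⊢
  refine (by decide +kernel : ∀ n ∈ Nat.divisors 5616, (¬ 13 ∣ n → n % 13 = 1) →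
    (13 ∣ n → 1728 < n) → (2 ^ 3 ∣ n → ¬ 2 * n ∣ 5616) → (3 ^ 1 ∣ n → ¬ 3 * n ∣ 5616) →
    n ≠ 3 ^ 3 → n = 1 ∨ n = 5616) n
    (Nat.mem_divisors.2 ⟨h1, by norm_num⟩) a2 (fun h => ?_) c1 c2 c3
  have := co_lt (G := G) (by norm_num) h; omega

theorem key_6048 (hG : ¬ IsMulCommutative G) (hc : Nat.card G = 6048) (h3 : Ex G 3 1) : Key G :=
  fun n h1 hL => by
  have i : Iso G 7 := fun x hx => (S1001.result 7 3 5 (by norm_num) hc x hx).le
  obtain ⟨a1, a2⟩ := i.rule (m := 864) (c := 2) (n := n) (by norm_num) hc (by norm_num) (by decide)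
  have c1 := (ex_two (e := 4) hG (by rw [hc]; norm_num) (by rw [hc]; norm_num)).not_dvd
    Nat.prime_two hL
  have c2 := h3.not_dvd Nat.prime_three hL
  have c3 : n ≠ 2 ^ 3 := by
    rintro rfl
    have := eq_of_prime_pow Nat.prime_two h1 hL
    omega
  rw [hL] at a2
  rw [hc] at h1 c1 c2 ⊢
  refine (by decide +kernel : ∀ n ∈ Nat.divisors 6048, (¬ 7 ∣ n → n % 7 = 1) →
    (7 ∣ n → 1728 < n) → (2 ^ 4 ∣ n → ¬ 2 * n ∣ 6048) → (3 ^ 1 ∣ n → ¬ 3 * n ∣ 6048) →
    n ≠ 2 ^ 3 → n = 1 ∨ n = 6048) n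
    (Nat.mem_divisors.2 ⟨h1, by norm_num⟩) a2 (fun h => ?_) c1 c2 c3
  have := co_lt (G := G) (by norm_num) h; omega

omit [Finite G] [IsSimpleGroup G] in
theorem Ex.of_equiv {G' : Type*} [Group G'] {p e : ℕ} (f : G ≃* G') (h : Ex G' p e) : Ex G p e :=
  fun g k hg => f.injective (by
    rw [map_pow, map_one]; exact h _ k (by rw [← map_pow, hg, map_one]))

theorem key_l33 (hG : ¬ IsMulCommutative G) {F : Type} [Field F] [Fintype F]
    (h : Fintype.card F = 3) (e : G ≃* Matrix.ProjectiveSpecialLinearGroup (Fin 3) F) : Key G := by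
  have : Fact (Nat.Prime 3) := ⟨Nat.prime_three⟩
  have : CharP F 3 := charP_of_card_eq_prime h
  have h1 := Cl.card_psl_mul (ι := Fin 3) (F := F)
  rw [Cl.card_sl_three, Nat.card_eq_fintype_card (α := F), ← Nat.card_congr e.toEquiv, h] at h1
  exact key_5616 hG (by norm_num at h1; omega)
    (.of_equiv e (ex_of_mat (slToMat 3 F) Subtype.val_injective (QuotientGroup.mk' _)
      (QuotientGroup.mk'_surjective _) le_rfl))

theorem key_u33 (hG : ¬ IsMulCommutative G) {F : Type} [Field F] [Fintype F]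
    (h : Fintype.card F = 9) (e : G ≃* PSU 3 F 3) : Key G := by
  have : Fact (Nat.Prime 3) := ⟨Nat.prime_three⟩
  have : CharP F 3 := charP_of_card_eq_prime_pow (f := 2) h
  have h1 := BO.card_psu_three (F := F) (q := 3) h
  refine key_6048 hG (by rw [Nat.card_congr e.toEquiv]; simpa using h1)
    (.of_equiv e (ex_of_mat ((slToMat 3 F).comp (SU 3 F 3).subtype)
      (Subtype.val_injective.comp Subtype.val_injective) (QuotientGroup.mk' _)
      (QuotientGroup.mk'_surjective _) le_rfl))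

theorem key_a7 (hG : ¬ IsMulCommutative G) (e : G ≃* alternatingGroup (Fin 7)) : Key G :=
  key_2520 hG (by
    rw [Nat.card_congr e.toEquiv, nat_card_alternatingGroup]; simp [Nat.factorial])

end Cfsg.Agent.Zm
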