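import Mathlib
import Cfsg.Agent.Zm.Small
import Cfsg.Agent.NG.Core
import Cfsg.Agent.GT.Conj

/-!
# Frobenius' conjecture for the Tits group
-/

set_option autoImplicit false
set_option maxRecDepth 100000

namespace Cfsg.Agent.Zm

/-- The arithmetic condition for the Tits group. -/
def okT (n : ℕ) : Prop :=
  (¬ 13 ∣ n → n % 13 = 1) → (2 ^ 5 ∣ n → ¬ 2 * n ∣ 17971200) → (3 ∣ n → ¬ 3 * n ∣ 17971200) →
    (5 ∣ n → ¬ 5 * n ∣ 17971200) → n ≠ 3 ^ 3 → (13 ∣ n → 2764800 < n) → n = 1 ∨ n = 17971200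

set_option synthInstance.maxSize 4000 in
set_option synthInstance.maxHeartbeats 200000 in
instance (n : ℕ) : Decidable (okT n) := by unfold okT; infer_instance

theorem okT_all : ∀ a ≤ 11, ∀ b ≤ 3, ∀ c ≤ 2, ∀ d ≤ 1, okT (2 ^ a * 3 ^ b * 5 ^ c * 13 ^ d) := by
  decide +kernel

open Subgroup Cfsg.Agent.Inv Cfsg.Agent.Spor Cfsg.Agent.Rec Cfsg.Agent.Spor.MX Cfsg.Agent.Chev.F4T
open Cfsg.Agent.NG Cfsg.Agent.NG.TP

/-- The Tits group. -/
abbrev TT : Type := commutator T2.Fix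

/-- The element of a word. -/
noncomputable def el (w : List ℕ) : TT :=
  ⟨evalW (nth 1 eT) w, clos_eT ▸ evalW_mem fun j _ => nth_mem_clos eT j⟩

/-- Powers of words. -/
def wp (w : List ℕ) : ℕ → List ℕ
  | 0 => []
  | k + 1 => wp w k ++ w

theorem el_mul (v w : List ℕ) : el v * el w = el (v ++ w) :=
  Subtype.ext (evalW_append _ v w).symm

theorem el_nil : el [] = 1 := Subtype.ext (evalW_nil (nth 1 eT))

theorem el_pow (w : List ℕ) (k : ℕ) : el w ^ k = el (wp w k) := by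
  induction k with
  | zero => exact el_nil.symm
  | succ k ih => rw [pow_succ, ih, el_mul]; rfl

theorem el_eq {v w : List ℕ} (h : mev v = mev w) : el v = el w :=
  Subtype.ext (Subtype.ext (ρ_inj (T2.mem_Fix.1 (evalW (nth 1 eT) v).2).1
    (T2.mem_Fix.1 (evalW (nth 1 eT) w).2).1 ((rho_eT v).trans (h ▸ (rho_eT w).symm))))

theorem el_ne {v w : List ℕ}
    (h : ¬ ∀ i < 26, ∀ j < 26, ((mev v).getD i 0).testBit j = ((mev w).getD i 0).testBit j) :
    el v ≠ el w := fun e => h fun i hi j hj => by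
  have h1 : evalW (nth 1 eT) v = evalW (nth 1 eT) w := congrArg Subtype.val e
  have h2 := rho_eT v
  rw [h1, rho_eT] at h2
  have h3 := congrFun (congrFun h2 ⟨i, hi⟩) ⟨j, hj⟩
  simp only [toM, toV, Matrix.of_apply] at h3
  revert h3
  cases ((mev v).getD i 0).testBit j <;> cases ((mev w).getD i 0).testBit j <;> simp

theorem card_TT : Nat.card TT = 17971200 := card_T2.trans (by norm_num)

instance : Finite TT := Nat.finite_of_card_ne_zero (by rw [card_TT]; norm_num)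

theorem ex_TT : Ex TT 2 5 :=
  ex_of_mat (d := 26) ((Units.coeHom _).comp (titsRho.comp (commutator T2.Fix).subtype))
    (fun a b h => Subtype.ext (Subtype.ext
      (ρ_inj (T2.mem_Fix.1 a.1.2).1 (T2.mem_Fix.1 b.1.2).1 h)))
    (MonoidHom.id _) Function.surjective_id (by norm_num)

theorem nc_TT {p : ℕ} [Fact p.Prime] {u v : List ℕ} (h1 : mev (wp u p) = mev [])
    (h2 : mev (wp v p) = mev []) (h3 : mev (u ++ v) = mev (v ++ u))
    (h4 : ¬ ∀ i < 26, ∀ j < 26, ((mev u).getD i 0).testBit j = ((mev []).getD i 0).testBit j)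
    (h5 : ∀ k < p, ¬ ∀ i < 26, ∀ j < 26,
      ((mev v).getD i 0).testBit j = ((mev (wp u k)).getD i 0).testBit j) (P : Sylow p TT) :
    ¬ IsCyclic P :=
  not_isCyclic_of_pair (u := el u) (v := el v) (by rw [el_pow, el_eq h1, el_nil])
    (by rw [el_pow, el_eq h2, el_nil]) (by rw [el_mul, el_mul, el_eq h3])
    (el_nil ▸ el_ne h4) (fun k hk => el_pow u k ▸ el_ne (h5 k hk)) P

theorem iso_gen {G : Type*} [Group G] [Finite G] [IsSimpleGroup G] (hc : Nat.card G = 17971200)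
    (h26 : ∀ g : G, orderOf g ≠ 26) {x h : G} (hx : orderOf x = 13) (hh : h * x = x ^ 4 * h) :
    Iso G 13 := by
  have h13 : Fact (Nat.Prime 13) := ⟨by norm_num⟩
  have hsq : ¬ 13 ^ 2 ∣ Nat.card G := by rw [hc]; norm_num
  obtain ⟨n, e, v, -, hC, hN, hp, hm, -, he, -⟩ :=
    PS.prime_data (by rw [hc]; norm_num) hsq hx
  have hv : ¬ 2 ∣ v := fun hv => by
    obtain ⟨t, ht⟩ := exists_prime_orderOf_dvd_card' 2 (hC ▸ hv.mul_right 13)
    rw [← orderOf_coe] at ht
    have hcm : Commute (t : G) x := mem_centralizer_singleton_iff.1 t.2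
    exact h26 _ (by rw [hcm.orderOf_mul_eq_mul_orderOf_of_coprime (by rw [ht, hx]; norm_num), ht, hx])
  have hk : ∀ k : ℕ, h ^ k * x * (h ^ k)⁻¹ = x ^ 4 ^ k := fun k => by
    induction k with
    | zero => simp
    | succ k ih =>
      rw [pow_succ h, mul_inv_rev, pow_succ 4, pow_mul, ← ih, conj_pow, mul_assoc (h ^ k), hh]
      simp [mul_assoc]
  have h1 : h ∈ PB.N x := by
    refine mem_normalizer_fintype fun y hy => ?_
    obtain ⟨j, rfl⟩ := mem_zpowers_iff.1 hy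
    have := hk 1
    rw [pow_one, pow_one] at this
    rw [← conj_zpow, this]
    exact zpow_mem (pow_mem (mem_zpowers x) _) _
  have h2 : (PB.C x).relIndex (PB.N x) = e := by
    have h3 := (relIndex_mul_index (PB.C_le_N x))
    have h4 := ((PB.C x).subgroupOf (PB.N x)).index_mul_card
    rw [Nat.card_congr (subgroupOfEquivOfLe (PB.C_le_N x)).toEquiv, hC, hN] at h4
    exact Nat.eq_of_mul_eq_mul_right (hC ▸ Nat.card_pos) h4
  have h3 : ((PB.C x).subgroupOf (PB.N x)).Normal := by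
    have : PB.C x = centralizer (zpowers x : Set G) := by
      rw [zpowers_eq_closure, centralizer_closure]
    rw [this]
    exact normal_subgroupOf_centralizer_normalizer _
  have h4 : h ^ e ∈ PB.C x := pow_index_mem (H := (PB.C x).subgroupOf (PB.N x)) ⟨h, h1⟩ |> (h2 ▸ ·)
  have h5 := hk e
  rw [PB.mem_C.1 h4, mul_inv_cancel_right] at h5
  have h6 : 1 ≡ 4 ^ e [MOD 13] := hx ▸ pow_eq_pow_iff_modEq.1 ((pow_one x).trans h5)
  have h7 : e = 6 ∨ e = 12 :=
    (by decide +kernel : ∀ e ∈ Nat.divisors 12, 1 % 13 = 4 ^ e % 13 → e = 6 ∨ e = 12) e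
      (Nat.mem_divisors.2 ⟨he, by norm_num⟩) h6
  have h8 : v = 1 := by
    rw [hc] at hp
    have h9 : v ∣ 2 ^ 10 * 225 := by
      rcases h7 with rfl | rfl
      · exact ⟨n, by nlinarith⟩
      · exact ⟨2 * n, by nlinarith⟩
    have h10 : v ∣ 225 := (Nat.Coprime.pow_right 10
      ((Nat.Prime.coprime_iff_not_dvd Nat.prime_two).2 hv).symm).dvd_of_dvd_mul_left h9
    have h11 := (by decide +kernel : ∀ v ∈ Nat.divisors 225, v ∈ [1, 3, 5, 9, 15, 25, 45, 75, 225]) v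
      (Nat.mem_divisors.2 ⟨h10, by norm_num⟩)
    simp only [List.mem_cons, List.not_mem_nil, or_false] at h11
    rcases h7 with rfl | rfl <;> rcases h11 with rfl | rfl | rfl | rfl | rfl | rfl | rfl | rfl | rfl <;>
      omega
  exact .of_card fun y hy => (PB.Setup.card_C_eq ⟨h13.out, hx, hsq⟩ hy).trans (by rw [hC, h8])

theorem key_gen {G : Type*} [Group G] [Finite G] [IsSimpleGroup G] (hc : Nat.card G = 17971200)
    (i13 : Iso G 13) (e2 : Ex G 2 5) (P : Sylow 3 G) (hP : ¬ IsCyclic P) (Q : Sylow 5 G)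
    (hQ : ¬ IsCyclic Q) : Key G := fun n h1 hL => by
  have h3 : Fact (Nat.Prime 3) := ⟨by norm_num⟩
  have h5 : Fact (Nat.Prime 5) := ⟨by norm_num⟩
  obtain ⟨a1, a2⟩ := i13.rule (m := 1382400) (c := 2) (n := n) (by norm_num) hc
    (by norm_num) (by decide)
  have c2 := e2.not_dvd Nat.prime_two hL
  have c3 := not_dvd_of_odd (p := 3) (by norm_num) P hP hL
  have c5 := not_dvd_of_odd (p := 5) (by norm_num) Q hQ hL
  have c4 : n ≠ 3 ^ 3 := by
    rintro rfl
    have := eq_of_prime_pow Nat.prime_three h1 hL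
    omega
  have c6 : 13 ∣ n → 2764800 < n := fun h => by
    have := co_lt (G := G) (by norm_num) h; omega
  rw [hL] at a2
  rw [hc] at c2 c3 c5 ⊢
  rw [hc, show 17971200 = 2 ^ 11 * 3 ^ 3 * 5 ^ 2 * 13 by norm_num] at h1
  obtain ⟨x, d, l1, k4, rfl⟩ := exists_dvd_and_dvd_of_dvd_mul h1
  obtain ⟨y, c, l2, k3, rfl⟩ := exists_dvd_and_dvd_of_dvd_mul l1
  obtain ⟨a, b, k1, k2, rfl⟩ := exists_dvd_and_dvd_of_dvd_mul l2
  obtain ⟨a, m1, rfl⟩ := (Nat.dvd_prime_pow Nat.prime_two).1 k1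
  obtain ⟨b, m2, rfl⟩ := (Nat.dvd_prime_pow h3.out).1 k2
  obtain ⟨c, m3, rfl⟩ := (Nat.dvd_prime_pow h5.out).1 k3
  obtain ⟨d, m4, rfl⟩ := (Nat.dvd_prime_pow (by norm_num : Nat.Prime 13)).1 ((pow_one 13).symm ▸ k4)
  exact okT_all a m1 b m2 c m3 d m4 a2 c2 c3 c5 c4 c6

theorem no26 {G : Type*} [Group G] [Finite G] (h : Hyp G) (hc : Nat.card G = 17971200) (y : G) :
    orderOf y ≠ 26 := fun hy => by
  have h2 : orderOf (y ^ 13) = 2 := by rw [orderOf_pow' _ (by norm_num), hy]; rfl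
  have h13 : orderOf (y ^ 2) = 13 := by rw [orderOf_pow' _ (by norm_num), hy]; rfl
  have : Fact (Nat.Prime 13) := ⟨by norm_num⟩
  have k1 := h.chp_cent (T := zpowers (y ^ 13)) (.of_card (n := 1) (by rw [Nat.card_zpowers, h2]; rfl))
    (fun e => by rw [zpowers_eq_bot.1 e, orderOf_one] at h2; omega)
  have k2 : y ^ 2 ∈ centralizer (zpowers (y ^ 13) : Set G) := by
    rw [zpowers_eq_closure, centralizer_closure]
    exact mem_centralizer_singleton_iff.2 (Commute.pow_pow_self y 2 13)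
  set Q := pCoreOf 2 (centralizer (zpowers (y ^ 13) : Set G))
  have hQ : IsPGroup 2 Q := Loc.Mss.pg_core _
  have k3 := GT.card_modEq_card_inf_centralizer (p := 13) (Q := zpowers (y ^ 2)) (L := Q)
    (.of_card (n := 1) (by rw [Nat.card_zpowers, h13]; rfl))
    (zpowers_le.2 (Loc.Mss.le_norm_core _ k2))
  obtain ⟨i, hi⟩ := IsPGroup.iff_card.1 hQ
  obtain ⟨j, hj⟩ := IsPGroup.iff_card.1 (hQ.to_inf_left (K := centralizer (zpowers (y ^ 2) : Set G)))
  have k4 : i < 12 := by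
    by_contra k4
    have := (pow_dvd_pow 2 (not_lt.1 k4)).trans (hi ▸ card_subgroup_dvd_card Q)
    rw [hc] at this
    norm_num at this
  have k5 : j ≤ i := (Nat.pow_le_pow_iff_right one_lt_two).1 (hi ▸ hj ▸ card_le_of_le inf_le_left)
  rw [hi, hj] at k3
  have k6 : i = j := (by decide : ∀ i < 12, ∀ j ≤ i, 2 ^ i % 13 = 2 ^ j % 13 → i = j) i k4 j k5 k3
  have k7 : Q ⊓ centralizer (zpowers (y ^ 2) : Set G) = Q :=
    eq_of_le_of_card_ge inf_le_left (by rw [hi, hj, k6])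
  have k8 : y ^ 2 ∈ Q := k1 ⟨k2, fun q hq => ((k7.ge hq).2 _ (mem_zpowers _)).symm⟩
  have k9 := orderOf_dvd_natCard (⟨_, k8⟩ : Q)
  rw [← orderOf_coe, h13, hi] at k9
  exact absurd ((by norm_num : Nat.Prime 13).dvd_of_dvd_pow k9) (by norm_num)

theorem ord_x : orderOf (el [0, 4, 8]) = 13 :=
  haveI : _root_.Fact (Nat.Prime 13) := ⟨by norm_num⟩
  orderOf_eq_prime ((el_pow _ _).trans ((el_eq (by decide +kernel)).trans el_nil))
    (el_nil ▸ el_ne (by decide +kernel))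

theorem rel_x : el [2, 6, 5, 8, 4, 8, 2, 4, 8, 6, 4, 4] * el [0, 4, 8] =
    el [0, 4, 8] ^ 4 * el [2, 6, 5, 8, 4, 8, 2, 4, 8, 6, 4, 4] := by
  rw [el_pow, el_mul, el_mul]; exact el_eq (by decide +kernel)

theorem key_TT (h26 : ∀ g : TT, orderOf g ≠ 26) : Key TT :=
  haveI : _root_.Fact (Nat.Prime 3) := ⟨by norm_num⟩
  haveI : _root_.Fact (Nat.Prime 5) := ⟨by norm_num⟩
  haveI := isSimpleGroup_T2
  key_gen card_TT (iso_gen card_TT h26 ord_x rel_x) ex_TT default (nc_TT (u := [4, 7, 5, 8])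
    (v := [4, 1, 8, 4, 1, 4, 7, 5, 8, 1, 5, 8, 1, 5]) (by decide +kernel) (by decide +kernel)
    (by decide +kernel) (by decide +kernel) (by decide +kernel) _) default (nc_TT (u := [4])
    (v := [8, 5, 5, 1, 8, 4, 8, 1, 4, 4, 8]) (by decide +kernel) (by decide +kernel)
    (by decide +kernel) (by decide +kernel) (by decide +kernel) _)

theorem no26' {G G' : Type*} [Group G] [Finite G] [Group G'] (h : Hyp G) (e : G ≃* G')
    (hc : Nat.card G' = 17971200) (y : G') : orderOf y ≠ 26 := fun hy =>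
  no26 h ((Nat.card_congr e.toEquiv).trans hc) (e.symm y) ((e.symm.orderOf_eq y).trans hy)

theorem nonempty_TT {G : Type*} [Group G] [Finite G] (h : Hyp G) : Nonempty (G ≃* TT) := by
  obtain ⟨Y, z, x, a, b, g, f, m, t⟩ := h.exists_TM
  have hw : IsPt Y (Tw a f m) := by
    simpa only [inv_inv] using t.pt_a.cj (f * m * f⁻¹ * f⁻¹ * m * f)⁻¹
  exact t.toMRel.iso t.col.2.2.1.symm (t.pl hw) t.top

theorem key_hyp {G : Type*} [Group G] [Finite G] (h : Hyp G) : Key G := by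
  obtain ⟨e⟩ := nonempty_TT h
  have h1 : ∀ g : TT, orderOf g ≠ 26 := no26' (G' := TT) h e card_TT
  exact Key.of_equiv (G := TT) e (key_TT h1)

end Cfsg.Agent.Zm
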